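import Groth.Agent.AGFLib.QuasiComp.Chevalley
import Groth.Agent.AGFLib.QuasiComp.Albanese
import Groth.Agent.GrpSchLib.LargestNormalSep
import Groth.Agent.NIsog.Kernel
import Groth.Agent.S5237

/-!
# Properness of the quotient by the linear part over a perfect field
-/

set_option backward.isDefEq.respectTransparency false
set_option backward.isDefEq.respectTransparency.types false
set_option linter.style.haveILetI false

universe u

open CategoryTheory Limits AlgebraicGeometry MonoidalCategory CartesianMonoidalCategory MonObj GrpObj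
open Groth.Agent.GrpSchLib
open scoped CategoryTheory.MonObj

namespace Groth.Agent.ChevalleyPerfect

/-- The quotient by the largest smooth connected affine normal subgroup is proper. -/
theorem isProper_quot (k K : Type u) [Field k] [Field K] [Algebra k K] [IsAlgClosed K] [Algebra.IsSeparable k K]
    (G : Over (Spec (CommRingCat.of k))) [GrpObj G] [Smooth G.hom] [QuasiCompact G.hom] [ConnectedSpace G.left]
    (L : Over (Spec (CommRingCat.of k))) [GrpObj L] (l : L ⟶ G) [IsMonHom l] [IsClosedImmersion l.left]
    [Smooth L.hom] [ConnectedSpace L.left] [IsAffine L.left] (hln : AlgGrp.IsNormalHom l)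
    (hLmax : ∀ (Z : Over (Spec (CommRingCat.of k))) [GrpObj Z] (z : Z ⟶ G) [IsMonHom z], IsClosedImmersion z.left →
      Smooth Z.hom → ConnectedSpace Z.left → IsAffine Z.left → AlgGrp.IsNormalHom z → ∃ f : Z ⟶ L, f ≫ l = z)
    (Q : Over (Spec (CommRingCat.of k))) [GrpObj Q] (q : G ⟶ Q) [IsMonHom q] (hqs : Surjective q.left)
    (hqf : Flat q.left) (hql : LocallyOfFinitePresentation q.left) (hk : AlgGrp.IsKernel l q) : IsProper Q.hom := by
  haveI : LocallyOfFiniteType G.hom := inferInstance
  haveI := AntiAffine.isSeparated_grp G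
  -- the comparison over the algebraic closure
  let σ := Spec.map (CommRingCat.ofHom (algebraMap k K))
  let F := Over.pullback σ
  let GK : Over (Spec (CommRingCat.of K)) := Red.bc σ G
  let LK : Over (Spec (CommRingCat.of K)) := Red.bc σ L
  let lK : LK ⟶ GK := F.map l
  haveI : IsMonHom lK := H23.BcComp.isMonHom_bc_map σ l
  haveI : Smooth GK.hom := MorphismProperty.pullback_snd (P := @Smooth) G.hom σ inferInstance
  haveI : QuasiCompact GK.hom := MorphismProperty.pullback_snd (P := @QuasiCompact) G.hom σ inferInstance
  haveI : ConnectedSpace GK.left := AntiAffine.connectedSpace_bc G (algebraMap k K)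
  haveI : IsClosedImmersion lK.left := MorphismProperty.baseChange_map (P := @IsClosedImmersion) σ l inferInstance
  haveI : Smooth LK.hom := MorphismProperty.pullback_snd (P := @Smooth) L.hom σ inferInstance
  haveI : ConnectedSpace LK.left := AntiAffine.connectedSpace_bc L (algebraMap k K)
  haveI : IsAffine LK.left := by
    haveI : IsAffineHom L.hom := isAffineHom_of_isAffine L.hom
    haveI : IsAffineHom LK.hom := MorphismProperty.pullback_snd (P := @IsAffineHom) L.hom σ inferInstance
    exact isAffine_of_isAffineHom LK.hom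
  obtain ⟨A, _, α, hα, hAp, hAs, -, hαs, hαf, hαk⟩ := AGFLib.QuasiComp.exists_abelian_quot lK
    (LargestNormalSep.isNormalHom_map σ l hln) (fun H _ j _ _ _ _ _ hn => by
      exact LargestNormalSep.exists_lift k K G l hLmax σ rfl H j hn)
  haveI := hα; haveI := hαs; haveI := hαf; haveI := hAp
  let qK : GK ⟶ Red.bc σ Q := F.map q
  haveI : IsMonHom qK := H23.BcComp.isMonHom_bc_map σ q
  haveI : Surjective qK.left := MorphismProperty.overPullbackMap (P := @Surjective) _ _ hqs
  haveI : Flat qK.left := MorphismProperty.overPullbackMap (P := @Flat) _ _ hqf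
  haveI : LocallyOfFinitePresentation qK.left :=
    MorphismProperty.overPullbackMap (P := @LocallyOfFinitePresentation) _ _ hql
  haveI : LocallyOfFiniteType (α.left ≫ A.hom) := by rw [Over.w α]; infer_instance
  haveI : LocallyOfFiniteType α.left := locallyOfFiniteType_of_comp _ A.hom
  haveI : IsLocallyNoetherian A.left := LocallyOfFiniteType.isLocallyNoetherian A.hom
  haveI : LocallyOfFinitePresentation α.left := LocallyOfFinitePresentation.iff_locallyOfFiniteType.2 ‹_›
  have hn : AlgGrp.IsNormalHom lK := LargestNormalSep.isNormalHom_map σ l hln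
  have hkK : AlgGrp.IsKernel lK qK := NIsog.isKernel_bc σ hk
  have h₁ := AGFLib.QuasiComp.isQuotient_of_kernel lK qK hkK
  have h₂ := AGFLib.QuasiComp.isQuotient_of_kernel lK α hαk
  haveI : Mono lK := Over.mono_of_mono_left lK
  obtain ⟨a, ha, -⟩ := S5237.result lK hn qK h₁ α hαk.w
  obtain ⟨b, hb, -⟩ := S5237.result lK hn α h₂ qK hkK.w
  haveI : Epi qK := (FpqcDescLib.covers_of_isCovering (FpqcDescLib.isCovering_of_lfp qK.left)).over_epi
  haveI : Epi α := (FpqcDescLib.covers_of_isCovering (FpqcDescLib.isCovering_of_lfp α.left)).over_epi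
  let e : Red.bc σ Q ≅ A := ⟨a, b, by rw [← cancel_epi qK, reassoc_of% ha.1, hb.1, Category.comp_id],
    by rw [← cancel_epi α, reassoc_of% hb.1, ha.1, Category.comp_id]⟩
  haveI hQK : IsProper (Red.bc σ Q).hom := by
    rw [← Over.w e.hom]
    haveI : IsIso e.hom.left := ((Over.forget _).mapIso e).isIso_hom
    infer_instance
  haveI : MorphismProperty.DescendsAlong @IsProper (@Surjective ⊓ @Flat ⊓ @QuasiCompact : MorphismProperty Scheme.{u}) :=
    EtFound.fpqc_isProper
  haveI : Surjective σ := GrpSchLib.surjective_spec_map_field _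
  haveI : Flat σ := flat_spec_map_field _
  exact MorphismProperty.of_pullback_snd_of_descendsAlong (P := @IsProper)
    (Q := @Surjective ⊓ @Flat ⊓ @QuasiCompact) (f := Q.hom) (g := σ) ⟨⟨‹_›, ‹_›⟩, inferInstance⟩ hQK

end Groth.Agent.ChevalleyPerfect
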